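import Mathlib
import Groth.Agent.Lib.Lead.FF.FlatAdic
import Groth.Agent.Lib.Lead.QC.IdealComap

/-! # Global functions of a flat scheme over a local Artinian ring (S11468)

If `X → Spec C` is flat, `C` local Artinian, and the closed fibre `X₀` has `Γ(X₀, O) = k`, then
`Γ(X, O) = C`.  Proof: dévissage along a composition series of `C`, done directly with ideals
`J ⊆ C` and the sections of `J·O_X`. -/

set_option autoImplicit false
universe u
open CategoryTheory CategoryTheory.Limits AlgebraicGeometry TopologicalSpace Opposite TensorProduct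

namespace Groth.Agent.LD.ArtFib

section Algebra

variable {C B : Type*} [CommRing C] [CommRing B]

/-- flatness: `(N : a) = 𝔪` gives `(N B : δ a) ⊆ 𝔪 B`. -/
theorem mem_map_of_mul_mem (δ : C →+* B) (hδ : δ.Flat) (𝔪 N : Ideal C) [h𝔪 : 𝔪.IsMaximal] (a : C)
    (ha : a ∉ N) (hma : ∀ μ ∈ 𝔪, μ * a ∈ N) (b : B) (hb : δ a * b ∈ N.map δ) : b ∈ 𝔪.map δ := by
  letI := δ.toAlgebra
  haveI : Module.Flat C B := hδ
  let ψ : C →ₗ[C] C ⧸ N := (Submodule.mkQ N) ∘ₗ (LinearMap.toSpanSingleton C C a)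
  have hψ : ∀ r, ψ r = Ideal.Quotient.mk N (r * a) := fun r => rfl
  have hker : 𝔪 ≤ LinearMap.ker ψ := by
    intro μ hμ
    rw [LinearMap.mem_ker, hψ]
    exact Ideal.Quotient.eq_zero_iff_mem.2 (hma μ hμ)
  let φ : C ⧸ 𝔪 →ₗ[C] C ⧸ N := Submodule.liftQ 𝔪 ψ hker
  have hφ : ∀ r, φ (Ideal.Quotient.mk 𝔪 r) = Ideal.Quotient.mk N (r * a) := fun r => rfl
  have hinj : Function.Injective φ := by
    rw [← LinearMap.ker_eq_bot, LinearMap.ker_eq_bot']
    intro x hx
    obtain ⟨r, rfl⟩ := Ideal.Quotient.mk_surjective x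
    rw [hφ, Ideal.Quotient.eq_zero_iff_mem] at hx
    rw [Ideal.Quotient.eq_zero_iff_mem]
    by_contra hr
    obtain ⟨y, i, hi, hy⟩ := h𝔪.exists_inv hr
    apply ha
    have h1 : a = y * (r * a) + i * a := by rw [← mul_assoc, ← add_mul, hy, one_mul]
    rw [h1]
    exact N.add_mem (N.mul_mem_left y hx) (hma i hi)
  have hinj' := Module.Flat.lTensor_preserves_injective_linearMap (M := B) φ hinj
  have h1 : φ.lTensor B (b ⊗ₜ[C] (Ideal.Quotient.mk 𝔪 1)) = 0 := by
    rw [LinearMap.lTensor_tmul, hφ, one_mul]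
    apply (TensorProduct.tensorQuotEquivQuotSMul B N).injective
    rw [map_zero, TensorProduct.tensorQuotEquivQuotSMul_tmul_mk, Submodule.Quotient.mk_eq_zero,
      Ideal.smul_top_eq_map, Submodule.restrictScalars_mem, Algebra.smul_def]
    exact hb
  have h2 : b ⊗ₜ[C] (Ideal.Quotient.mk 𝔪 (1 : C)) = 0 := hinj' (by rw [h1, map_zero])
  have h3 := congrArg (TensorProduct.tensorQuotEquivQuotSMul B 𝔪) h2
  rw [map_zero, TensorProduct.tensorQuotEquivQuotSMul_tmul_mk, Submodule.Quotient.mk_eq_zero,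
    Ideal.smul_top_eq_map, Submodule.restrictScalars_mem, one_smul] at h3
  exact h3

theorem mul_mem_map (δ : C →+* B) (𝔪 N : Ideal C) (a : C) (hma : ∀ μ ∈ 𝔪, μ * a ∈ N) (x : B)
    (hx : x ∈ 𝔪.map δ) : δ a * x ∈ N.map δ := by
  refine Submodule.span_induction (p := fun x _ => δ a * x ∈ N.map δ) ?_ ?_ ?_ ?_ hx
  · rintro _ ⟨μ, hμ, rfl⟩
    rw [← map_mul, mul_comm]
    exact Ideal.mem_map_of_mem δ (hma μ hμ)
  · rw [mul_zero]; exact Ideal.zero_mem _
  · intro x y _ _ hx hy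
    rw [mul_add]; exact Ideal.add_mem _ hx hy
  · intro r x _ hx
    rw [smul_eq_mul, mul_left_comm]; exact Ideal.mul_mem_left _ r hx

theorem exists_decomp (δ : C →+* B) (J N : Ideal C) (a : C) (hJ : J ≤ N ⊔ Ideal.span {a}) (x : B)
    (hx : x ∈ J.map δ) : ∃ b : B, x - δ a * b ∈ N.map δ := by
  have h1 : x ∈ N.map δ ⊔ Ideal.span {δ a} := by
    have h := Ideal.map_mono (f := δ) hJ hx
    rwa [Ideal.map_sup, Ideal.map_span, Set.image_singleton] at h
  obtain ⟨ν, hν, y, hy, rfl⟩ := Submodule.mem_sup.1 h1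
  obtain ⟨b, rfl⟩ := Ideal.mem_span_singleton'.1 hy
  exact ⟨b, by rw [mul_comm b, add_sub_cancel_right]; exact hν⟩

/-- uniqueness of the coefficient modulo `𝔪 B`. -/
theorem sub_mem_of_decomp (δ : C →+* B) (hδ : δ.Flat) (𝔪 N : Ideal C) [𝔪.IsMaximal] (a : C)
    (ha : a ∉ N) (hma : ∀ μ ∈ 𝔪, μ * a ∈ N) (x b b' : B) (h : x - δ a * b ∈ N.map δ)
    (h' : x - δ a * b' ∈ N.map δ) : b - b' ∈ 𝔪.map δ := by
  apply mem_map_of_mul_mem δ hδ 𝔪 N a ha hma
  have h1 : δ a * (b - b') = (x - δ a * b') - (x - δ a * b) := by ring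
  rw [h1]
  exact Ideal.sub_mem _ h' h

end Algebra

section Sch

open Groth.Agent.LD.FF.FlatAdic

variable (C : Type u) [CommRing C] {X X₀ : Scheme.{u}} (g : X ⟶ Spec (CommRingCat.of C))

/-- the structure map `C → Γ(X, U)`. -/
noncomputable def δ (U : X.Opens) : C →+* Γ(X, U) :=
  (g.appLE ⊤ U (fun _ _ => trivial)).hom.comp (eΓ C).symm.toRingHom

lemma δ_res {U V : X.Opens} (h : V ≤ U) (c : C) :
    (X.presheaf.map (homOfLE h).op).hom (δ C g U c) = δ C g V c := by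
  have h1 := g.appLE_map (U := ⊤) (V := U) (fun _ _ => trivial) (homOfLE h).op
  exact congrArg (fun φ => φ.hom ((eΓ C).symm c)) h1

lemma δ_flat [Flat g] {U : X.Opens} (hU : IsAffineOpen U) : (δ C g U).Flat := by
  have h1 : (g.appLE ⊤ U (fun _ _ => trivial)).hom.Flat :=
    Scheme.Hom.flat_appLE g (isAffineOpen_top _) hU _
  exact RingHom.Flat.comp (RingHom.Flat.of_bijective (eΓ C).symm.bijective) h1

lemma res_mem_map {U W : X.Opens} (h : W ≤ U) (N : Ideal C) (x : Γ(X, U))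
    (hx : x ∈ N.map (δ C g U)) :
    (X.presheaf.map (homOfLE h).op).hom x ∈ N.map (δ C g W) := by
  have h1 := Ideal.mem_map_of_mem (X.presheaf.map (homOfLE h).op).hom hx
  rw [Ideal.map_map] at h1
  have h2 : (X.presheaf.map (homOfLE h).op).hom.comp (δ C g U) = δ C g W :=
    RingHom.ext (fun c => δ_res C g h c)
  rwa [h2] at h1

lemma res_res {Y : Scheme.{u}} {V₁ V₂ V₃ : Y.Opens} (p : V₂ ⟶ V₁) (q : V₃ ⟶ V₂) (x : Γ(Y, V₁)) :
    (Y.presheaf.map q.op).hom ((Y.presheaf.map p.op).hom x) =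
      (Y.presheaf.map (q ≫ p).op).hom x := by
  rw [op_comp, Functor.map_comp]; rfl

lemma δ_top (c : C) :
    δ C g ⊤ c = ((Scheme.ΓSpecIso (CommRingCat.of C)).inv ≫ g.appTop).hom c := by
  have h1 : g.appLE ⊤ ⊤ (fun _ _ => trivial) = g.appTop := Scheme.Hom.appLE_eq_app g
  show (g.appLE ⊤ ⊤ (fun _ _ => trivial)).hom ((eΓ C).symm c) = _
  rw [h1]
  rfl

variable {g} (m : Ideal C) (i : X₀ ⟶ X) (f₀ : X₀ ⟶ Spec (CommRingCat.of (C ⧸ m)))
  (hsq : IsPullback i f₀ g (gQ C m))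

include hsq in
lemma isClosedImmersion : IsClosedImmersion i := by
  haveI : IsClosedImmersion (gQ C m) :=
    IsClosedImmersion.spec_of_surjective _ Ideal.Quotient.mk_surjective
  exact MorphismProperty.of_isPullback (P := @IsClosedImmersion) hsq.flip inferInstance

include hsq in
lemma ker_app (U : X.affineOpens) : RingHom.ker (i.app U.1).hom = m.map (δ C g U.1) := by
  haveI : IsClosedImmersion (gQ C m) :=
    IsClosedImmersion.spec_of_surjective _ Ideal.Quotient.mk_surjective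
  haveI := isClosedImmersion C m i f₀ hsq
  have h1 : i.ker = (gQ C m).ker.comap g := by
    have h := Scheme.Hom.ker_comp_of_isIso hsq.isoPullback.hom (pullback.fst g (gQ C m))
    rw [hsq.isoPullback_hom_fst] at h
    rw [h, Scheme.IdealSheafData.ker_fst_of_isClosedImmersion]
  let T : (Spec (CommRingCat.of C)).affineOpens := ⟨⊤, isAffineOpen_top _⟩
  have hk : (gQ C m).ker.ideal T = m.map (eΓ C).symm.toRingHom := by
    rw [Scheme.Hom.ker_apply]
    have h3 : (gQ C m).appLE ⊤ ⊤ (fun _ _ => trivial) = (gQ C m).app ⊤ :=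
      Scheme.Hom.appLE_eq_app (gQ C m)
    have h4 := ker_appLE C m (fun _ _ => trivial)
    rw [h3] at h4
    exact h4
  rw [← Scheme.Hom.ker_apply i U, h1,
    Groth.Agent.LD.QC.ideal_comap_of_le (gQ C m).ker g T U (fun _ _ => trivial), hk, Ideal.map_map]
  rfl

include hsq in
lemma app_δ (U : X.Opens) (c : C) :
    (i.app U).hom (δ C g U c) =
      (X₀.presheaf.map (homOfLE (le_top : i ⁻¹ᵁ U ≤ ⊤)).op).hom
        (((Scheme.ΓSpecIso (CommRingCat.of (C ⧸ m))).inv ≫ f₀.appTop).hom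
          (Ideal.Quotient.mk m c)) := by
  have h1 : (Scheme.ΓSpecIso (CommRingCat.of C)).inv ≫ g.appTop ≫ i.appTop =
      CommRingCat.ofHom (Ideal.Quotient.mk m) ≫
        (Scheme.ΓSpecIso (CommRingCat.of (C ⧸ m))).inv ≫ f₀.appTop := by
    rw [← Scheme.Hom.comp_appTop, hsq.w, Scheme.Hom.comp_appTop,
      Scheme.ΓSpecIso_inv_naturality_assoc]
  have h2 := congrArg (fun φ => φ.hom c) h1
  have h3 : δ C g U c = (X.presheaf.map (homOfLE (le_top : U ≤ ⊤)).op).hom
      (g.appTop.hom ((Scheme.ΓSpecIso (CommRingCat.of C)).inv.hom c)) := rfl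
  have h4 := congrArg
    (fun φ => φ.hom (g.appTop.hom ((Scheme.ΓSpecIso (CommRingCat.of C)).inv.hom c)))
    (i.naturality (homOfLE (le_top : U ≤ ⊤)).op)
  rw [h3]
  refine h4.trans ?_
  exact congrArg (X₀.presheaf.map (homOfLE (le_top : i ⁻¹ᵁ U ≤ ⊤)).op).hom h2

end Sch

section Main

open Groth.Agent.LD.FF.FlatAdic

variable (C : Type u) [CommRing C] [IsLocalRing C] [IsArtinianRing C] {X X₀ : Scheme.{u}}
  (g : X ⟶ Spec (CommRingCat.of C)) [Flat g]
  (i : X₀ ⟶ X) (f₀ : X₀ ⟶ Spec (CommRingCat.of (C ⧸ IsLocalRing.maximalIdeal C)))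
  (hsq : IsPullback i f₀ g (gQ C (IsLocalRing.maximalIdeal C)))
  (h0 : Function.Bijective
    ((Scheme.ΓSpecIso (CommRingCat.of (C ⧸ IsLocalRing.maximalIdeal C))).inv ≫ f₀.appTop))

omit [IsLocalRing C] [IsArtinianRing C] in
lemma cover_top (i : X₀ ⟶ X) :
    (⊤ : X₀.Opens) ≤ iSup (fun W : X.affineOpens => i ⁻¹ᵁ W.1) := by
  intro y _
  obtain ⟨_, ⟨W, hW, rfl⟩, hyW, -⟩ :=
    X.isBasis_affineOpens.exists_subset_of_mem_open (Set.mem_univ (i y)) isOpen_univ
  exact Opens.mem_iSup.2 ⟨⟨W, hW⟩, hyW⟩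

omit [IsLocalRing C] [IsArtinianRing C] in
/-- a global section of `X₀` vanishing on all `i⁻¹ U`, `U` affine, vanishes. -/
lemma eq_zero_of_res (i : X₀ ⟶ X) (β : Γ(X₀, ⊤))
    (h : ∀ W : X.affineOpens,
      (X₀.presheaf.map (homOfLE (le_top : i ⁻¹ᵁ W.1 ≤ ⊤)).op).hom β = 0) : β = 0 := by
  apply X₀.sheaf.eq_of_locally_eq' (fun W : X.affineOpens => i ⁻¹ᵁ W.1) ⊤
    (fun W => homOfLE le_top) (cover_top i)
  intro W
  show (X₀.presheaf.map (homOfLE (le_top : i ⁻¹ᵁ W.1 ≤ ⊤)).op).hom β =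
    (X₀.presheaf.map (homOfLE (le_top : i ⁻¹ᵁ W.1 ≤ ⊤)).op).hom 0
  rw [h W, map_zero]

include hsq h0 in
set_option maxHeartbeats 1600000 in
theorem main (J : Ideal C) :
    (∀ c ∈ J, δ C g ⊤ c = 0 → c = 0) ∧
    (∀ s : Γ(X, ⊤), (∀ U : X.affineOpens,
        (X.presheaf.map (homOfLE (le_top : U.1 ≤ ⊤)).op).hom s ∈ J.map (δ C g U.1)) →
      ∃ c ∈ J, δ C g ⊤ c = s) := by
  induction J using WellFoundedLT.induction with
  | _ J ih =>
  haveI : (IsLocalRing.maximalIdeal C).IsMaximal := IsLocalRing.maximalIdeal.isMaximal C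
  have hker : ∀ (U : X.affineOpens) (x : Γ(X, U.1)),
      x ∈ (IsLocalRing.maximalIdeal C).map (δ C g U.1) ↔ (i.app U.1).hom x = 0 := by
    intro U x
    rw [← ker_app C (IsLocalRing.maximalIdeal C) i f₀ hsq U, RingHom.mem_ker]
  by_cases hJ : J = ⊥
  · subst hJ
    refine ⟨fun c hc _ => (Submodule.mem_bot C).1 hc, fun s hs => ⟨0, Submodule.zero_mem _, ?_⟩⟩
    rw [map_zero]
    symm
    have hc : (⊤ : X.Opens) ≤ iSup (fun W : X.affineOpens => W.1) := by
      intro y _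
      obtain ⟨_, ⟨W, hW, rfl⟩, hyW, -⟩ :=
        X.isBasis_affineOpens.exists_subset_of_mem_open (Set.mem_univ y) isOpen_univ
      exact Opens.mem_iSup.2 ⟨⟨W, hW⟩, hyW⟩
    apply X.sheaf.eq_of_locally_eq' (fun W : X.affineOpens => W.1) ⊤
      (fun W => homOfLE le_top) hc
    intro W
    show (X.presheaf.map (homOfLE (le_top : W.1 ≤ ⊤)).op).hom s =
      (X.presheaf.map (homOfLE (le_top : W.1 ≤ ⊤)).op).hom 0
    have h1 := hs W
    rw [Ideal.map_bot, Ideal.mem_bot] at h1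
    rw [h1, map_zero]
  -- choose a maximal ideal below `J`
  obtain ⟨N, hNJ, hNmax⟩ := wellFounded_gt.has_min {N : Ideal C | N < J}
    ⟨⊥, bot_lt_iff_ne_bot.2 hJ⟩
  have hNJ' : N < J := hNJ
  obtain ⟨a, haJ, haN⟩ := SetLike.exists_of_lt hNJ'
  have hmaxN : ∀ N' : Ideal C, N < N' → N' ≤ J → N' = J := by
    intro N' h1 h2
    by_contra hne
    exact hNmax N' (lt_of_le_of_ne h2 hne) h1
  have hsup : ∀ x : C, x ∈ J → x ∉ N → N ⊔ Ideal.span {x} = J := by
    intro x hxJ hxN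
    apply hmaxN
    · refine lt_of_le_of_ne le_sup_left (fun h => hxN ?_)
      have h1 : x ∈ N ⊔ Ideal.span {x} :=
        (le_sup_right : Ideal.span {x} ≤ N ⊔ Ideal.span {x}) (Ideal.mem_span_singleton_self x)
      rwa [← h] at h1
    · exact sup_le hNJ'.le ((Ideal.span_singleton_le_iff_mem _).2 hxJ)
  have hJle : J ≤ N ⊔ Ideal.span {a} := (hsup a haJ haN).ge
  have hma : ∀ μ ∈ (IsLocalRing.maximalIdeal C), μ * a ∈ N := by
    intro μ hμ
    by_contra hcon
    have h4 := hsup (μ * a) (J.mul_mem_left μ haJ) hcon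
    have h5 : a ∈ N ⊔ Ideal.span {μ * a} := by rw [h4]; exact haJ
    obtain ⟨n, hn, y, hy, hny⟩ := Submodule.mem_sup.1 h5
    obtain ⟨t, rfl⟩ := Ideal.mem_span_singleton'.1 hy
    have hu : IsUnit (1 - t * μ) :=
      IsLocalRing.isUnit_one_sub_self_of_mem_nonunits _
        ((IsLocalRing.mem_maximalIdeal _).1 (Ideal.mul_mem_left _ t hμ))
    apply haN
    have h6 : (1 - t * μ) * a = n := by linear_combination (-1 : C) * hny
    exact (N.unit_mul_mem_iff_mem hu).1 (by rw [h6]; exact hn)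
  have hflat : ∀ U : X.affineOpens, (δ C g U.1).Flat := fun U => δ_flat C g U.2
  have ihN := ih N hNJ'
  refine ⟨?_, ?_⟩
  · -- injectivity
    intro c hcJ hc0
    obtain ⟨n, hn, y, hy, hny⟩ := Submodule.mem_sup.1 (hJle hcJ)
    obtain ⟨t, rfl⟩ := Ideal.mem_span_singleton'.1 hy
    have hγ : ((Scheme.ΓSpecIso (CommRingCat.of (C ⧸ (IsLocalRing.maximalIdeal C)))).inv ≫ f₀.appTop).hom
        (Ideal.Quotient.mk (IsLocalRing.maximalIdeal C) t) = 0 := by
      apply eq_zero_of_res i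
      intro U
      rw [← app_δ C (IsLocalRing.maximalIdeal C) i f₀ hsq U.1 t, ← hker U]
      apply mem_map_of_mul_mem (δ C g U.1) (hflat U) (IsLocalRing.maximalIdeal C) N a haN hma
      have h1 : δ C g U.1 (n + t * a) = 0 := by
        rw [hny, ← δ_res C g (le_top : U.1 ≤ ⊤) c, hc0, map_zero]
      have h2 : δ C g U.1 a * δ C g U.1 t = - δ C g U.1 n := by
        rw [map_add, map_mul] at h1
        linear_combination h1
      rw [h2]
      exact Ideal.neg_mem_iff _ |>.2 (Ideal.mem_map_of_mem _ hn)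
    have ht : Ideal.Quotient.mk (IsLocalRing.maximalIdeal C) t = 0 := by
      apply h0.1
      rw [map_zero]
      exact hγ
    have htm : t ∈ (IsLocalRing.maximalIdeal C) := Ideal.Quotient.eq_zero_iff_mem.1 ht
    have hcN : c ∈ N := by
      rw [← hny]
      exact N.add_mem hn (hma t htm)
    exact ihN.1 c hcN hc0
  · -- surjectivity
    intro s hs
    choose b hb using fun U : X.affineOpens =>
      exists_decomp (δ C g U.1) J N a hJle _ (hs U)
    let sf : ∀ U : X.affineOpens, Γ(X₀, i ⁻¹ᵁ U.1) := fun U => (i.app U.1).hom (b U)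
    have key : ∀ (U W : X.affineOpens) (h : W.1 ≤ U.1) (k : i ⁻¹ᵁ W.1 ⟶ i ⁻¹ᵁ U.1),
        (X₀.presheaf.map k.op).hom (sf U) = sf W := by
      intro U W h k
      have h1 := congrArg (fun φ => φ.hom (b U)) (i.naturality (homOfLE h).op)
      have h2 : (X₀.presheaf.map k.op).hom (sf U) =
          (i.app W.1).hom ((X.presheaf.map (homOfLE h).op).hom (b U)) := h1.symm
      rw [h2]
      have h3 : (X.presheaf.map (homOfLE h).op).hom (b U) - b W ∈ (IsLocalRing.maximalIdeal C).map (δ C g W.1) := by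
        apply sub_mem_of_decomp (δ C g W.1) (hflat W) (IsLocalRing.maximalIdeal C) N a haN hma
          ((X.presheaf.map (homOfLE (le_top : W.1 ≤ ⊤)).op).hom s)
        · have h4 := res_mem_map C g h N _ (hb U)
          rw [map_sub, map_mul, δ_res, res_res] at h4
          exact h4
        · exact hb W
      rw [hker, map_sub, sub_eq_zero] at h3
      exact h3
    let Uι : X.affineOpens → X₀.Opens := fun W => i ⁻¹ᵁ W.1
    have hcompat : TopCat.Presheaf.IsCompatible X₀.presheaf Uι sf := by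
      intro U U'
      let ι' := {W : X.affineOpens // W.1 ≤ U.1 ⊓ U'.1}
      have hle : ∀ W : ι', i ⁻¹ᵁ W.1.1 ≤ Uι U ⊓ Uι U' := fun W y hy => ⟨(W.2 hy).1, (W.2 hy).2⟩
      have hcover' : Uι U ⊓ Uι U' ≤ iSup (fun W : ι' => i ⁻¹ᵁ W.1.1) := by
        intro y hy
        obtain ⟨W, hW, hyW, hWle⟩ :=
          exists_isAffineOpen_mem_and_subset (x := i y) (U := U.1 ⊓ U'.1) ⟨hy.1, hy.2⟩
        exact Opens.mem_iSup.2 ⟨⟨⟨W, hW⟩, hWle⟩, hyW⟩
      apply X₀.sheaf.eq_of_locally_eq' (fun W : ι' => i ⁻¹ᵁ W.1.1) (Uι U ⊓ Uι U')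
        (fun W => homOfLE (hle W)) hcover'
      intro W
      show (X₀.presheaf.map (homOfLE (hle W)).op).hom
          ((X₀.presheaf.map (Opens.infLELeft (Uι U) (Uι U')).op).hom (sf U)) =
        (X₀.presheaf.map (homOfLE (hle W)).op).hom
          ((X₀.presheaf.map (Opens.infLERight (Uι U) (Uι U')).op).hom (sf U'))
      rw [res_res, res_res]
      exact (key U W.1 (W.2.trans inf_le_left) _).trans
        (key U' W.1 (W.2.trans inf_le_right) _).symm
    obtain ⟨(β : Γ(X₀, ⊤)), hβ, -⟩ := X₀.sheaf.existsUnique_gluing' Uι ⊤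
      (fun W => homOfLE le_top) (cover_top i) sf hcompat
    obtain ⟨cbar, hcbar⟩ := h0.2 β
    obtain ⟨c₀, rfl⟩ := Ideal.Quotient.mk_surjective cbar
    have hc₀ : ((Scheme.ΓSpecIso (CommRingCat.of (C ⧸ (IsLocalRing.maximalIdeal C)))).inv ≫ f₀.appTop).hom
        (Ideal.Quotient.mk (IsLocalRing.maximalIdeal C) c₀) = β := hcbar
    have hs' : ∀ U : X.affineOpens,
        (X.presheaf.map (homOfLE (le_top : U.1 ≤ ⊤)).op).hom (s - δ C g ⊤ (a * c₀)) ∈
          N.map (δ C g U.1) := by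
      intro U
      have h1 : b U - δ C g U.1 c₀ ∈ (IsLocalRing.maximalIdeal C).map (δ C g U.1) := by
        rw [hker, map_sub, sub_eq_zero, app_δ C (IsLocalRing.maximalIdeal C) i f₀ hsq U.1 c₀, hc₀]
        exact (hβ U).symm
      have h2 := mul_mem_map (δ C g U.1) (IsLocalRing.maximalIdeal C) N a hma _ h1
      have h3 : (X.presheaf.map (homOfLE (le_top : U.1 ≤ ⊤)).op).hom (s - δ C g ⊤ (a * c₀)) =
          ((X.presheaf.map (homOfLE (le_top : U.1 ≤ ⊤)).op).hom s - δ C g U.1 a * b U) +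
            δ C g U.1 a * (b U - δ C g U.1 c₀) := by
        rw [map_sub, δ_res, map_mul]
        ring
      rw [h3]
      exact Ideal.add_mem _ (hb U) h2
    obtain ⟨n, hn, hns⟩ := ihN.2 _ hs'
    refine ⟨n + a * c₀, J.add_mem (hNJ'.le hn) (J.mul_mem_right c₀ haJ), ?_⟩
    rw [map_add, hns]
    ring

include hsq h0 in
theorem bijective_top :
    Function.Bijective ((Scheme.ΓSpecIso (CommRingCat.of C)).inv ≫ g.appTop) := by
  obtain ⟨hinj, hsurj⟩ := main C g i f₀ hsq h0 ⊤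
  constructor
  · intro x y hxy
    have h1 : δ C g ⊤ (x - y) = 0 := by
      rw [map_sub, δ_top, δ_top]
      exact sub_eq_zero.2 hxy
    exact sub_eq_zero.1 (hinj _ Submodule.mem_top h1)
  · intro s
    obtain ⟨c, -, hc⟩ := hsurj s (fun U => by rw [Ideal.map_top]; exact Submodule.mem_top)
    exact ⟨c, by rw [← hc, δ_top]⟩

end Main

/-- **S11468** -/
theorem s11468 (C : Type u) [CommRing C]
    [IsLocalRing C] [IsArtinianRing C] (X X₀ : Scheme.{u}) (g : X ⟶ Spec (CommRingCat.of C)) [Flat g]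
    (i : X₀ ⟶ X) (f₀ : X₀ ⟶ Spec (CommRingCat.of (C ⧸ IsLocalRing.maximalIdeal C)))
    (hsq : IsPullback i f₀ g
      (Spec.map (CommRingCat.ofHom (Ideal.Quotient.mk (IsLocalRing.maximalIdeal C)))))
    (h0 : Function.Bijective ((Scheme.ΓSpecIso (CommRingCat.of (C ⧸ IsLocalRing.maximalIdeal C))).inv ≫
      f₀.appTop)) :
    Function.Bijective ((Scheme.ΓSpecIso (CommRingCat.of C)).inv ≫ g.appTop) :=
  bijective_top C g i f₀ hsq h0

end Groth.Agent.LD.ArtFib
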