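import Mathlib
import Groth.Prelude.Def_FlatMod2
import Groth.Agent.Lib.Helper2.WeilStalk
import Groth.Agent.Lib.Helper8.ConstructibleNoeth
import Groth.Agent.Lib.Lead.QC.Gen
import Groth.Agent.Lib.Lead.QC.Stalk

/-!
# Finitely many local sections generating all stalks of a subsheaf of `O_X` (Noetherian `X`)
-/

set_option autoImplicit false
universe u
open CategoryTheory CategoryTheory.Limits AlgebraicGeometry TopologicalSpace Opposite

namespace Groth.Agent.LD.IdealGen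

open Groth.Agent.LD

/-- saturation with respect to a prime is reached by one denominator (Noetherian rings). -/
theorem exists_sat {A : Type*} [CommRing A] [IsNoetherianRing A] (𝔞 p : Ideal A) [p.IsPrime] :
    ∃ f ∈ p.primeCompl, ∀ c u, u ∈ p.primeCompl → u * c ∈ 𝔞 → f * c ∈ 𝔞 := by
  classical
  let 𝔟 : Ideal A :=
    { carrier := {c | ∃ u ∈ p.primeCompl, u * c ∈ 𝔞}
      add_mem' := by
        rintro c₁ c₂ ⟨u₁, hu₁, h₁⟩ ⟨u₂, hu₂, h₂⟩
        refine ⟨u₁ * u₂, p.primeCompl.mul_mem hu₁ hu₂, ?_⟩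
        have : u₁ * u₂ * (c₁ + c₂) = u₂ * (u₁ * c₁) + u₁ * (u₂ * c₂) := by ring
        rw [this]
        exact 𝔞.add_mem (𝔞.mul_mem_left _ h₁) (𝔞.mul_mem_left _ h₂)
      zero_mem' := ⟨1, p.primeCompl.one_mem, by simp⟩
      smul_mem' := by
        rintro r c ⟨u, hu, h⟩
        refine ⟨u, hu, ?_⟩
        have : u * (r • c) = r * (u * c) := by rw [smul_eq_mul]; ring
        rw [this]
        exact 𝔞.mul_mem_left _ h }
  obtain ⟨T, hT⟩ := (IsNoetherian.noetherian 𝔟 : 𝔟.FG)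
  have hmem : ∀ c ∈ 𝔟, ∃ u ∈ p.primeCompl, u * c ∈ 𝔞 := fun c hc => hc
  let u : A → A := fun c => if hc : c ∈ 𝔟 then (hmem c hc).choose else 1
  have hu : ∀ c, u c ∈ p.primeCompl := by
    intro c
    by_cases hc : c ∈ 𝔟
    · simp only [u, dif_pos hc]
      exact (hmem c hc).choose_spec.1
    · simp only [u, dif_neg hc]
      exact p.primeCompl.one_mem
  have hu' : ∀ c ∈ 𝔟, u c * c ∈ 𝔞 := by
    intro c hc
    simp only [u, dif_pos hc]
    exact (hmem c hc).choose_spec.2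
  refine ⟨∏ t ∈ T, u t, prod_mem fun t _ => hu t, ?_⟩
  intro c v hv hvc
  have hc : c ∈ 𝔟 := ⟨v, hv, hvc⟩
  have hle : 𝔟 ≤ Submodule.comap (LinearMap.mulLeft A (∏ t ∈ T, u t)) 𝔞 := by
    rw [← hT]
    refine Submodule.span_le.mpr fun t ht => ?_
    have htb : t ∈ 𝔟 := hT ▸ Submodule.subset_span ht
    show (∏ t ∈ T, u t) * t ∈ 𝔞
    rw [← Finset.mul_prod_erase T u ht, mul_comm (u t), mul_assoc]
    exact 𝔞.mul_mem_left _ (hu' t htb)
  exact hle hc

variable {X : Scheme.{u}}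

/-- restriction in the structure module is restriction of functions. -/
lemma unit_map {U V : X.Opens} (i : V ≤ U) (x : Γ(X, U)) :
    ((Coh.structureModule X).presheaf.map (homOfLE i).op
      (show Γ(Coh.structureModule X, U) from x) : Γ(X, V)) =
      X.presheaf.map (homOfLE i).op x := rfl

/-- scalar multiplication in the structure module is multiplication of functions. -/
lemma unit_smul {U : X.Opens} (d x : Γ(X, U)) :
    ((d • (show Γ(Coh.structureModule X, U) from x) : Γ(Coh.structureModule X, U)) : Γ(X, U)) =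
      d * x := rfl

variable (G : X.Modules)

/-- the stalk map of a morphism to the structure module, with values in the local ring. -/
noncomputable def stalkToO (ι : G ⟶ Coh.structureModule X) (x : X) :
    G.presheaf.stalk x →ₗ[X.presheaf.stalk x] X.presheaf.stalk x :=
  (Groth.Agent.H2.HomSh.unitStalkEquiv x).symm.toLinearMap.comp (RefHull.stalkMapₗ ι x)

variable {G}

lemma stalkToO_germ (ι : G ⟶ Coh.structureModule X) (x : X) (V : X.Opens) (hV : x ∈ V)
    (s : Γ(G, V)) :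
    stalkToO G ι x (G.presheaf.germ V x hV s) =
      X.presheaf.germ V x hV (ι.app V s : Γ(X, V)) := by
  have h := Groth.Agent.H2.Weil.unitStalkEquiv_germ V x hV (ι.app V s : Γ(X, V))
  have h1 : RefHull.stalkMapₗ ι x (G.presheaf.germ V x hV s) =
      (Coh.structureModule X).presheaf.germ V x hV (ι.app V s) :=
    RefHull.stalkMapₗ_germ ι x hV s
  show (Groth.Agent.H2.HomSh.unitStalkEquiv x).symm
    (RefHull.stalkMapₗ ι x (G.presheaf.germ V x hV s)) = _
  rw [h1]
  exact (LinearEquiv.symm_apply_eq _).mpr h.symm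

lemma stalkToO_injective (ι : G ⟶ Coh.structureModule X) [Mono ι] (x : X) :
    Function.Injective (stalkToO G ι x) := by
  have hinj : Function.Injective (RefHull.stalkMapₗ ι x) := by
    rw [injective_iff_map_eq_zero]
    intro a ha
    obtain ⟨U, hxU, s, rfl⟩ := TopCat.Presheaf.exists_germ_eq G.presheaf a
    rw [RefHull.stalkMapₗ_germ] at ha
    have ha' : (Coh.structureModule X).presheaf.germ U x hxU (ι.app U s) =
        (Coh.structureModule X).presheaf.germ U x hxU 0 := by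
      rw [ha, map_zero]
    obtain ⟨W, hxW, iU, iV, hW⟩ :=
      TopCat.Presheaf.germ_eq (Coh.structureModule X).presheaf x hxU hxU _ _ ha'
    have h1 : ι.app W (G.presheaf.map iU.op s) = 0 := by
      have := QC.app_res ι iU.le s
      rw [map_zero] at hW
      exact this.trans hW
    have h2 : G.presheaf.map iU.op s = 0 :=
      QC.mono_app ι W (h1.trans (map_zero _).symm)
    rw [← TopCat.Presheaf.germ_res_apply G.presheaf iU x hxW s, h2, map_zero]
  exact (Groth.Agent.H2.HomSh.unitStalkEquiv x).symm.injective.comp hinj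

variable (G)

/-- the germs at `y` of a family of local sections. -/
def germSet (𝓕 : Set (Σ U : X.Opens, Γ(G, U))) (y : X) : Set (G.presheaf.stalk y) :=
  {g | ∃ p ∈ 𝓕, ∃ h : y ∈ p.1, G.presheaf.germ p.1 y h p.2 = g}

variable {G}

lemma germSet_mono {𝓕 𝓕' : Set (Σ U : X.Opens, Γ(G, U))} (h : 𝓕 ⊆ 𝓕') (y : X) :
    germSet G 𝓕 y ⊆ germSet G 𝓕' y := by
  rintro g ⟨p, hp, hy, rfl⟩
  exact ⟨p, h hp, hy, rfl⟩

lemma span_top_mono {𝓕 𝓕' : Set (Σ U : X.Opens, Γ(G, U))} (h : 𝓕 ⊆ 𝓕') (y : X)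
    (hy : Submodule.span (X.presheaf.stalk y) (germSet G 𝓕 y) = ⊤) :
    Submodule.span (X.presheaf.stalk y) (germSet G 𝓕' y) = ⊤ := by
  rw [eq_top_iff, ← hy]
  exact Submodule.span_mono (germSet_mono h y)

/-- **local generation** near the generic point of an irreducible closed subset. -/
theorem local_gen [IsNoetherian X] (ι : G ⟶ Coh.structureModule X) [Mono ι] (ξ : X) :
    ∃ W : X.Opens, ξ ∈ W ∧ ∃ 𝓕 : Set (Σ U : X.Opens, Γ(G, U)), 𝓕.Finite ∧
      ∀ y ∈ W, ξ ⤳ y → Submodule.span (X.presheaf.stalk y) (germSet G 𝓕 y) = ⊤ := by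
  classical
  -- Step 1: the stalk at `ξ` is finitely generated
  haveI : IsNoetherian (X.presheaf.stalk ξ) (G.presheaf.stalk ξ) :=
    isNoetherian_of_injective (stalkToO G ι ξ) (stalkToO_injective ι ξ)
  obtain ⟨n, g, hg⟩ := Submodule.fg_iff_exists_fin_generating_family.mp
    (IsNoetherian.noetherian (⊤ : Submodule (X.presheaf.stalk ξ) (G.presheaf.stalk ξ)))
  -- Step 2: generators as sections over a common affine open
  choose V hξV s hs using fun i => TopCat.Presheaf.exists_germ_eq G.presheaf (g i)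
  have hξV₀ : ξ ∈ (⨅ i, V i : X.Opens) := by
    rw [← SetLike.mem_coe, Opens.coe_iInf]
    exact Set.mem_iInter.mpr hξV
  obtain ⟨U, hU, hξU, hUV₀⟩ :=
    exists_isAffineOpen_mem_and_subset (x := ξ) (U := ⨅ i, V i) hξV₀
  have hUV : ∀ i, U ≤ V i := fun i => (show U ≤ ⨅ i, V i from hUV₀).trans (iInf_le V i)
  let t : Fin n → Γ(G, U) := fun i => G.presheaf.map (homOfLE (hUV i)).op (s i)
  have ht : ∀ i, G.presheaf.germ U ξ hξU (t i) = g i := fun i => by
    rw [← hs i]
    exact QC.germ_res G ξ (hUV i) hξU (s i)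
  -- Step 3: the saturation denominator
  haveI : IsNoetherianRing Γ(X, U) := IsLocallyNoetherian.component_noetherian ⟨U, hU⟩
  let a : Fin n → Γ(X, U) := fun i => ι.app U (t i)
  let 𝔞 : Ideal Γ(X, U) := Ideal.span (Set.range a)
  let p : Ideal Γ(X, U) := (hU.primeIdealOf ⟨ξ, hξU⟩).asIdeal
  obtain ⟨f, hfp, hf⟩ := exists_sat 𝔞 p
  have hξW : ξ ∈ X.basicOpen f :=
    (X.mem_basicOpen f ξ hξU).mpr (QC.isUnit_germ_of_notMem hU ξ hξU f hfp)
  refine ⟨X.basicOpen f, hξW, Set.range (fun i => (⟨U, t i⟩ : Σ U : X.Opens, Γ(G, U))),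
    Set.finite_range _, ?_⟩
  intro y hyW hξy
  have hyU : y ∈ U := X.basicOpen_le f hyW
  rw [eq_top_iff]
  rintro g₀ -
  obtain ⟨V', hyV', s₀, rfl⟩ := TopCat.Presheaf.exists_germ_eq G.presheaf g₀
  obtain ⟨h, hDV, hyD⟩ :=
    hU.exists_basicOpen_le (V := V' ⊓ X.basicOpen f) ⟨y, ⟨hyV', hyW⟩⟩ hyU
  have hDV' : X.basicOpen h ≤ V' := hDV.trans inf_le_left
  have hDW : X.basicOpen h ≤ X.basicOpen f := hDV.trans inf_le_right
  have hDU : X.basicOpen h ≤ U := X.basicOpen_le h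
  have hξD : ξ ∈ X.basicOpen h := hξy.mem_open (X.basicOpen h).2 hyD
  let s' : Γ(G, X.basicOpen h) := G.presheaf.map (homOfLE hDV').op s₀
  let b : Γ(X, X.basicOpen h) := ι.app (X.basicOpen h) s'
  -- Step 4: clear denominators
  haveI := hU.isLocalization_basicOpen h
  obtain ⟨⟨c, m⟩, hcm⟩ := IsLocalization.surj (Submonoid.powers h) b
  let ρ : Γ(X, U) →+* Γ(X, X.basicOpen h) := (X.presheaf.map (homOfLE hDU).op).hom
  have hcm' : b * ρ (m : Γ(X, U)) = ρ c := hcm
  -- Step 5: at `ξ`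
  have hspan : G.presheaf.germ (X.basicOpen h) ξ hξD s' ∈
      Submodule.span (X.presheaf.stalk ξ) (Set.range g) := by
    rw [hg]
    trivial
  obtain ⟨e, he⟩ := (Submodule.mem_span_range_iff_exists_fun _).mp hspan
  have h5 : X.presheaf.germ (X.basicOpen h) ξ hξD b =
      ∑ i, e i * X.presheaf.germ U ξ hξU (a i) := by
    have h51 := congrArg (stalkToO G ι ξ) he.symm
    rw [stalkToO_germ, map_sum] at h51
    rw [show X.presheaf.germ (X.basicOpen h) ξ hξD b = _ from h51]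
    refine Finset.sum_congr rfl fun i _ => ?_
    rw [map_smul, smul_eq_mul, ← ht i, stalkToO_germ]
  letI : Algebra Γ(X, U) (X.presheaf.stalk ξ) :=
    TopCat.Presheaf.algebra_section_stalk X.presheaf ⟨ξ, hξU⟩
  haveI := hU.isLocalization_stalk ⟨ξ, hξU⟩
  have halg : ∀ r : Γ(X, U), algebraMap Γ(X, U) (X.presheaf.stalk ξ) r =
      X.presheaf.germ U ξ hξU r := fun r => rfl
  have h6 : algebraMap Γ(X, U) (X.presheaf.stalk ξ) c ∈
      Ideal.map (algebraMap Γ(X, U) (X.presheaf.stalk ξ)) 𝔞 := by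
    have e1 : X.presheaf.germ U ξ hξU c =
        X.presheaf.germ (X.basicOpen h) ξ hξD b * X.presheaf.germ U ξ hξU (m : Γ(X, U)) := by
      rw [← QC.sgerm_res ξ hDU hξD c, ← QC.sgerm_res ξ hDU hξD (m : Γ(X, U)), ← map_mul]
      exact congrArg _ hcm'.symm
    rw [halg, e1, h5, Finset.sum_mul]
    refine Ideal.sum_mem _ fun i _ => ?_
    rw [mul_assoc, mul_comm (X.presheaf.germ U ξ hξU (a i)), ← mul_assoc, ← halg (a i)]
    exact Ideal.mul_mem_left _ _ (Ideal.mem_map_of_mem _ (Ideal.subset_span ⟨i, rfl⟩))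
  obtain ⟨u, hu, huc⟩ := (IsLocalization.algebraMap_mem_map_algebraMap_iff p.primeCompl
    (X.presheaf.stalk ξ) 𝔞 c).mp h6
  have hfc : f * c ∈ 𝔞 := hf c u hu huc
  obtain ⟨r, hr⟩ := Ideal.mem_span_range_iff_exists_fun.mp hfc
  -- Step 6: restrict to `D(h)`
  have hu1 : IsUnit (ρ (m : Γ(X, U))) := IsLocalization.map_units _ m
  have hu2 : IsUnit (ρ f) := by
    have h1 := X.toRingedSpace.isUnit_res_basicOpen f
    have h2 := h1.map (X.presheaf.map (homOfLE hDW).op).hom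
    have h3 : (X.presheaf.map (homOfLE hDW).op).hom
        ((X.presheaf.map (homOfLE (X.basicOpen_le f)).op).hom f) = ρ f := by
      show (X.presheaf.map (homOfLE (X.basicOpen_le f)).op ≫
        X.presheaf.map (homOfLE hDW).op) f = _
      rw [← X.presheaf.map_comp]
      rfl
    rw [← h3]
    exact h2
  obtain ⟨w, hw⟩ := hu2.mul hu1
  have hb : b = ∑ i, (↑w⁻¹ * ρ (r i)) * ρ (a i) := by
    have h7 : ρ (f * c) = ↑w * b := by
      rw [map_mul, hw, ← hcm']
      ring
    have h8 : ρ (f * c) = ∑ i, ρ (r i) * ρ (a i) := by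
      rw [← hr, map_sum]
      simp only [map_mul]
    calc b = ↑w⁻¹ * (↑w * b) := by rw [← mul_assoc, Units.inv_mul, one_mul]
      _ = ↑w⁻¹ * ∑ i, ρ (r i) * ρ (a i) := by rw [← h7, h8]
      _ = _ := by
        rw [Finset.mul_sum]
        simp only [mul_assoc]
  have hρa : ∀ i, ρ (a i) =
      (show Γ(X, X.basicOpen h) from
        ι.app (X.basicOpen h) (G.presheaf.map (homOfLE hDU).op (t i))) := fun i =>
    (QC.app_res ι hDU (t i)).symm
  have hs' : s' = ∑ i, (↑w⁻¹ * ρ (r i)) • G.presheaf.map (homOfLE hDU).op (t i) := by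
    apply QC.mono_app ι (X.basicOpen h)
    rw [map_sum]
    refine (show ι.app (X.basicOpen h) s' = (show Γ(Coh.structureModule X, X.basicOpen h) from b)
      from rfl).trans ?_
    rw [hb]
    refine Finset.sum_congr rfl fun i _ => ?_
    rw [Scheme.Modules.Hom.app_smul, hρa i]
    rfl
  -- Step 7: conclude at `y`
  have hfinal : G.presheaf.germ V' y hyV' s₀ =
      ∑ i, X.presheaf.germ (X.basicOpen h) y hyD (↑w⁻¹ * ρ (r i)) •
        G.presheaf.germ U y hyU (t i) := by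
    rw [← QC.germ_res G y hDV' hyD s₀]
    show G.presheaf.germ (X.basicOpen h) y hyD s' = _
    rw [hs', map_sum]
    refine Finset.sum_congr rfl fun i _ => ?_
    rw [QC.germ_smul, QC.germ_res G y hDU hyD (t i)]
  rw [hfinal]
  exact Submodule.sum_mem _ fun i _ => Submodule.smul_mem _ _
    (Submodule.subset_span ⟨⟨U, t i⟩, ⟨i, rfl⟩, hyU, rfl⟩)

/-- finitely many local sections generate all stalks of a subsheaf of `O_X`. -/
theorem exists_finite_family [IsNoetherian X] (ι : G ⟶ Coh.structureModule X) [Mono ι] :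
    ∃ 𝓕 : Set (Σ U : X.Opens, Γ(G, U)), 𝓕.Finite ∧
      ∀ y : X, Submodule.span (X.presheaf.stalk y) (germSet G 𝓕 y) = ⊤ := by
  have key : ∀ Z : Set X, IsClosed Z → ∃ 𝓕 : Set (Σ U : X.Opens, Γ(G, U)), 𝓕.Finite ∧
      ∀ y ∈ Z, Submodule.span (X.presheaf.stalk y) (germSet G 𝓕 y) = ⊤ := by
    apply Groth.Agent.H8.CNoeth.closed_induction
    · exact ⟨∅, Set.finite_empty, fun y hy => hy.elim⟩
    · intro Z hZ hZi ih
      obtain ⟨ξ, hξ⟩ := QuasiSober.sober hZi hZ
      have hξZ : closure ({ξ} : Set X) = Z := hξ.def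
      obtain ⟨W, hξW, 𝓕₁, hfin₁, h₁⟩ := local_gen ι ξ
      have hξmem : ξ ∈ Z := hξZ ▸ subset_closure (Set.mem_singleton ξ)
      have hcl : IsClosed (Z ∩ (W : Set X)ᶜ) := hZ.inter W.2.isClosed_compl
      have hlt : Z ∩ (W : Set X)ᶜ ⊂ Z :=
        ⟨Set.inter_subset_left, fun hsub => (hsub hξmem).2 hξW⟩
      obtain ⟨𝓕₂, hfin₂, h₂⟩ := ih _ hcl hlt
      refine ⟨𝓕₁ ∪ 𝓕₂, hfin₁.union hfin₂, fun y hy => ?_⟩
      by_cases hyW : y ∈ W
      · refine span_top_mono Set.subset_union_left y (h₁ y hyW ?_)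
        rw [specializes_iff_mem_closure, hξZ]
        exact hy
      · exact span_top_mono Set.subset_union_right y (h₂ y ⟨hy, hyW⟩)
    · rintro Z₁ Z₂ - - ⟨𝓕₁, hfin₁, h₁⟩ ⟨𝓕₂, hfin₂, h₂⟩
      refine ⟨𝓕₁ ∪ 𝓕₂, hfin₁.union hfin₂, fun y hy => ?_⟩
      rcases hy with hy | hy
      · exact span_top_mono Set.subset_union_left y (h₁ y hy)
      · exact span_top_mono Set.subset_union_right y (h₂ y hy)
  obtain ⟨𝓕, hfin, h⟩ := key Set.univ isClosed_univ
  exact ⟨𝓕, hfin, fun y => h y (Set.mem_univ y)⟩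

/-- **S11167**. -/
theorem s11167 {X : Scheme.{u}} [IsNoetherian X]
    (G : X.Modules) (ι : G ⟶ Coh.structureModule X) [Mono ι] :
    ∃ (m : ℕ) (U : Fin m → X.Opens) (k : Fin m → ℕ)
      (s : (i : Fin m) → Fin (k i) → (G.presheaf.obj (Opposite.op (U i)) : Type u)),
      ∀ x : X, Submodule.span (X.presheaf.stalk x)
          (Set.range (fun p : (Σ i : {i : Fin m // x ∈ U i}, Fin (k i.1)) =>
            (G.presheaf.germ (U p.1.1) x p.1.2) (s p.1.1 p.2))) = ⊤ := by
  obtain ⟨𝓕, hfin, h⟩ := exists_finite_family ι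
  obtain ⟨n, e, he⟩ := hfin.fin_embedding
  refine ⟨n, fun i => (e i).1, fun _ => 1, fun i _ => (e i).2, fun x => ?_⟩
  rw [eq_top_iff, ← h x]
  refine Submodule.span_mono ?_
  rintro g ⟨p, hp, hx, rfl⟩
  rw [← he] at hp
  obtain ⟨i, rfl⟩ := hp
  exact ⟨⟨⟨i, hx⟩, 0⟩, rfl⟩

end Groth.Agent.LD.IdealGen
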