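import Mathlib
import Groth.Agent.Lib.Lead.Coh2.ArtFib

/-! # Global functions of a proper flat scheme over a complete Noetherian local ring (S14285)

If `X → Spec R` is proper and flat, `R` complete Noetherian local, and the closed fibre `X₀` has
`Γ(X₀, O) = k`, then `Γ(X, O) = R`.  Proof: the Artinian case (`ArtFib.s11468`) applied to the base
changes to `R/𝔪ⁿ⁺¹`, completeness of `R`, Krull's intersection theorem in the local rings of `X`
at the points of the closed fibre, and properness (every nonempty closed subset of `X` meets the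
closed fibre). -/

set_option autoImplicit false
universe u
open CategoryTheory CategoryTheory.Limits AlgebraicGeometry TopologicalSpace Opposite

namespace Groth.Agent.LD.ComplFib

open Groth.Agent.LD.FF.FlatAdic Groth.Agent.LD.ArtFib

section Alg

variable (R : Type u) [CommRing R] [IsLocalRing R]

theorem isLocalRing_quot (K : Ideal R) (hK : K ≤ IsLocalRing.maximalIdeal R) :
    IsLocalRing (R ⧸ K) := by
  haveI : Nontrivial (R ⧸ K) := by
    rw [Ideal.Quotient.nontrivial_iff]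
    intro h
    have h1 : IsLocalRing.maximalIdeal R = ⊤ := top_le_iff.mp (h ▸ hK)
    exact (IsLocalRing.maximalIdeal.isMaximal R).ne_top h1
  exact IsLocalRing.of_surjective' (Ideal.Quotient.mk K) Ideal.Quotient.mk_surjective

theorem isArtinianRing_quot_pow [IsNoetherianRing R] (n : ℕ) :
    IsArtinianRing (R ⧸ IsLocalRing.maximalIdeal R ^ (n + 1)) := by
  haveI := isLocalRing_quot R (IsLocalRing.maximalIdeal R ^ (n + 1))
    (Ideal.pow_le_self n.succ_ne_zero)
  refine (isArtinianRing_iff_isNilpotent_maximalIdeal _).mpr ⟨n + 1, ?_⟩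
  rw [← IsLocalRing.map_maximalIdeal_of_surjective
    (Ideal.Quotient.mk (IsLocalRing.maximalIdeal R ^ (n + 1))) Ideal.Quotient.mk_surjective,
    ← Ideal.map_pow, Ideal.zero_eq_bot, Ideal.map_quotient_self]

variable {R}

/-- `(R/K)/𝔪_{R/K} ≃ R/𝔪`. -/
noncomputable def resEquiv (K : Ideal R) [IsLocalRing (R ⧸ K)]
    (hK : K ≤ IsLocalRing.maximalIdeal R) :
    (R ⧸ K) ⧸ IsLocalRing.maximalIdeal (R ⧸ K) ≃+* R ⧸ IsLocalRing.maximalIdeal R :=
  (Ideal.quotEquivOfEq (IsLocalRing.map_maximalIdeal_of_surjective (Ideal.Quotient.mk K)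
    Ideal.Quotient.mk_surjective).symm).trans (DoubleQuot.quotQuotEquivQuotOfLE hK)

theorem resEquiv_mk (K : Ideal R) [IsLocalRing (R ⧸ K)]
    (hK : K ≤ IsLocalRing.maximalIdeal R) (r : R) :
    resEquiv K hK (Ideal.Quotient.mk _ (Ideal.Quotient.mk K r)) = Ideal.Quotient.mk _ r := rfl

end Alg

section Van

variable {R : Type u} [CommRing R] {X : Scheme.{u}} (g : X ⟶ Spec (CommRingCat.of R))

/-- the global section `t` vanishes modulo `K`. -/
def Van (K : Ideal R) (t : Γ(X, ⊤)) : Prop :=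
  ∀ U : X.affineOpens,
    (X.presheaf.map (homOfLE (le_top : U.1 ≤ ⊤)).op).hom t ∈ K.map (δ R g U.1)

variable {g}

lemma van_mono {K K' : Ideal R} (h : K ≤ K') {t : Γ(X, ⊤)} (ht : Van g K t) : Van g K' t :=
  fun U => Ideal.map_mono h (ht U)

lemma van_sub {K : Ideal R} {t t' : Γ(X, ⊤)} (ht : Van g K t) (ht' : Van g K t') :
    Van g K (t - t') := fun U => by
  rw [map_sub]
  exact Ideal.sub_mem _ (ht U) (ht' U)

lemma van_δ {K : Ideal R} {c : R} (hc : c ∈ K) : Van g K (δ R g ⊤ c) := fun U => by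
  rw [δ_res]
  exact Ideal.mem_map_of_mem _ hc

end Van

section Sch

variable {R : Type u} [CommRing R] [IsLocalRing R] {X X₀ : Scheme.{u}}
  (g : X ⟶ Spec (CommRingCat.of R)) [Flat g]
  (i : X₀ ⟶ X) (f₀ : X₀ ⟶ Spec (CommRingCat.of (R ⧸ IsLocalRing.maximalIdeal R)))
  (hsq : IsPullback i f₀ g (gQ R (IsLocalRing.maximalIdeal R)))
  (h0 : Function.Bijective
    ((Scheme.ΓSpecIso (CommRingCat.of (R ⧸ IsLocalRing.maximalIdeal R))).inv ≫ f₀.appTop))

include hsq h0 in
/-- the Artinian case applied to the base change to `R/K`. -/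
theorem bijective_quot (K : Ideal R) [IsLocalRing (R ⧸ K)] [IsArtinianRing (R ⧸ K)]
    (hK : K ≤ IsLocalRing.maximalIdeal R) :
    Function.Bijective ((Scheme.ΓSpecIso (CommRingCat.of (R ⧸ K))).inv ≫
      (pullback.snd g (gQ R K)).appTop) := by
  obtain ⟨φ, hφ⟩ : ∃ φ : (R ⧸ K) ⧸ IsLocalRing.maximalIdeal (R ⧸ K) ≃+*
      R ⧸ IsLocalRing.maximalIdeal R,
      ∀ r : R, φ (Ideal.Quotient.mk _ (Ideal.Quotient.mk K r)) = Ideal.Quotient.mk _ r :=
    ⟨resEquiv K hK, resEquiv_mk K hK⟩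
  obtain ⟨ε, hε⟩ : ∃ ε : Spec (CommRingCat.of (R ⧸ IsLocalRing.maximalIdeal R)) ⟶
      Spec (CommRingCat.of ((R ⧸ K) ⧸ IsLocalRing.maximalIdeal (R ⧸ K))),
      ε = Spec.map φ.toCommRingCatIso.hom := ⟨_, rfl⟩
  haveI : IsIso ε := by
    rw [hε]
    infer_instance
  have hcomp : CommRingCat.ofHom (Ideal.Quotient.mk K) ≫
      CommRingCat.ofHom (Ideal.Quotient.mk (IsLocalRing.maximalIdeal (R ⧸ K))) ≫
        φ.toCommRingCatIso.hom =
      CommRingCat.ofHom (Ideal.Quotient.mk (IsLocalRing.maximalIdeal R)) := by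
    ext r
    exact hφ r
  have hεg : ε ≫ gQ (R ⧸ K) (IsLocalRing.maximalIdeal (R ⧸ K)) ≫ gQ R K =
      gQ R (IsLocalRing.maximalIdeal R) := by
    rw [hε]
    change Spec.map _ ≫ Spec.map _ ≫ Spec.map _ = Spec.map _
    rw [← Spec.map_comp, ← Spec.map_comp, Category.assoc, hcomp]
  obtain ⟨f₀', hf₀'⟩ : ∃ f₀' : X₀ ⟶
      Spec (CommRingCat.of ((R ⧸ K) ⧸ IsLocalRing.maximalIdeal (R ⧸ K))), f₀' = f₀ ≫ ε :=
    ⟨_, rfl⟩
  have hbig : IsPullback i f₀' g
      (gQ (R ⧸ K) (IsLocalRing.maximalIdeal (R ⧸ K)) ≫ gQ R K) := by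
    refine IsPullback.of_iso hsq (Iso.refl _) (Iso.refl _) (asIso ε) (Iso.refl _) ?_ ?_ ?_ ?_
    · simp
    · simp [hf₀']
    · simp
    · simp only [Iso.refl_hom, Category.comp_id, asIso_hom]
      exact hεg.symm
  have w : i ≫ g = (f₀' ≫ gQ (R ⧸ K) (IsLocalRing.maximalIdeal (R ⧸ K))) ≫ gQ R K := by
    rw [Category.assoc]
    exact hbig.w
  obtain ⟨i', hi'⟩ : ∃ i' : X₀ ⟶ pullback g (gQ R K),
      i' = pullback.lift i (f₀' ≫ gQ (R ⧸ K) (IsLocalRing.maximalIdeal (R ⧸ K))) w := ⟨_, rfl⟩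
  have hi'1 : i' ≫ pullback.fst g (gQ R K) = i := by rw [hi', pullback.lift_fst]
  have hi'2 : i' ≫ pullback.snd g (gQ R K) =
      f₀' ≫ gQ (R ⧸ K) (IsLocalRing.maximalIdeal (R ⧸ K)) := by rw [hi', pullback.lift_snd]
  have hleft : IsPullback i' f₀' (pullback.snd g (gQ R K))
      (gQ (R ⧸ K) (IsLocalRing.maximalIdeal (R ⧸ K))) := by
    refine IsPullback.of_right ?_ hi'2 (IsPullback.of_hasPullback g (gQ R K))
    rw [hi'1]
    exact hbig
  haveI : Flat (pullback.snd g (gQ R K)) :=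
    MorphismProperty.pullback_snd (P := @Flat) g (gQ R K) inferInstance
  have e1 : (Scheme.ΓSpecIso (CommRingCat.of
      ((R ⧸ K) ⧸ IsLocalRing.maximalIdeal (R ⧸ K)))).inv ≫ f₀'.appTop =
      φ.toCommRingCatIso.hom ≫
        ((Scheme.ΓSpecIso (CommRingCat.of (R ⧸ IsLocalRing.maximalIdeal R))).inv ≫
          f₀.appTop) := by
    rw [hf₀', hε, Scheme.Hom.comp_appTop, ← Category.assoc, ← Scheme.ΓSpecIso_inv_naturality,
      Category.assoc]
  have h0' : Function.Bijective ((Scheme.ΓSpecIso (CommRingCat.of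
      ((R ⧸ K) ⧸ IsLocalRing.maximalIdeal (R ⧸ K)))).inv ≫ f₀'.appTop) := by
    rw [e1]
    refine ⟨fun x y hxy => ?_, fun s => ?_⟩
    · exact φ.injective (h0.1 hxy)
    · obtain ⟨c, hc⟩ := h0.2 s
      refine ⟨φ.symm c, ?_⟩
      show ((Scheme.ΓSpecIso (CommRingCat.of (R ⧸ IsLocalRing.maximalIdeal R))).inv ≫
          f₀.appTop) (φ (φ.symm c)) = s
      rw [RingEquiv.apply_symm_apply]
      exact hc
  exact s11468 (R ⧸ K) _ X₀ (pullback.snd g (gQ R K)) i' f₀' hleft h0'

include hsq h0 in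
theorem mem_of_van_δ (K : Ideal R) [IsLocalRing (R ⧸ K)] [IsArtinianRing (R ⧸ K)]
    (hK : K ≤ IsLocalRing.maximalIdeal R) (c : R) (hc : Van g K (δ R g ⊤ c)) : c ∈ K := by
  have hb := bijective_quot g i f₀ hsq h0 K hK
  have sq := IsPullback.of_hasPullback g (gQ R K)
  have h1 : ((Scheme.ΓSpecIso (CommRingCat.of (R ⧸ K))).inv ≫
      (pullback.snd g (gQ R K)).appTop).hom (Ideal.Quotient.mk K c) = 0 := by
    apply eq_zero_of_res (pullback.fst g (gQ R K))
    intro U
    rw [← app_δ R K (pullback.fst g (gQ R K)) (pullback.snd g (gQ R K)) sq U.1 c,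
      ← RingHom.mem_ker, ker_app R K _ _ sq U]
    have h2 := hc U
    rwa [δ_res] at h2
  have h2 : Ideal.Quotient.mk K c = 0 := hb.1 (by rw [map_zero]; exact h1)
  exact Ideal.Quotient.eq_zero_iff_mem.mp h2

include hsq h0 in
theorem exists_van_sub (K : Ideal R) [IsLocalRing (R ⧸ K)] [IsArtinianRing (R ⧸ K)]
    (hK : K ≤ IsLocalRing.maximalIdeal R) (s : Γ(X, ⊤)) :
    ∃ c : R, Van g K (s - δ R g ⊤ c) := by
  have hb := bijective_quot g i f₀ hsq h0 K hK
  have sq := IsPullback.of_hasPullback g (gQ R K)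
  obtain ⟨cbar, hcbar⟩ := hb.2 ((pullback.fst g (gQ R K)).appTop.hom s)
  obtain ⟨c, rfl⟩ := Ideal.Quotient.mk_surjective cbar
  refine ⟨c, fun U => ?_⟩
  rw [← ker_app R K _ _ sq U, RingHom.mem_ker, map_sub, map_sub, δ_res, sub_eq_zero,
    app_δ R K _ _ sq U.1 c]
  have h4 := congrArg (fun φ => φ.hom s)
    ((pullback.fst g (gQ R K)).naturality (homOfLE (le_top : U.1 ≤ ⊤)).op)
  refine h4.trans ?_
  exact congrArg ((pullback g (gQ R K)).presheaf.map
    (homOfLE (le_top : pullback.fst g (gQ R K) ⁻¹ᵁ U.1 ≤ ⊤)).op).hom hcbar.symm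

include hsq in
omit [Flat g] in
/-- a global section vanishing modulo all powers of the maximal ideal is zero. -/
theorem eq_zero_of_forall_van [IsNoetherianRing R] [IsProper g] (t : Γ(X, ⊤))
    (h : ∀ n : ℕ, Van g (IsLocalRing.maximalIdeal R ^ n) t) : t = 0 := by
  haveI : IsLocallyNoetherian X := LocallyOfFiniteType.isLocallyNoetherian g
  -- vanishing of the germs at the points of the closed fibre
  have hA : ∀ x₀ : X₀, X.presheaf.germ ⊤ (i x₀) trivial t = 0 := by
    intro x₀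
    obtain ⟨U, hU, hxU, -⟩ :=
      exists_isAffineOpen_mem_and_subset (x := i x₀) (U := (⊤ : X.Opens)) trivial
    haveI : IsNoetherianRing Γ(X, U) := IsLocallyNoetherian.component_noetherian ⟨U, hU⟩
    obtain ⟨b, hb⟩ : ∃ b : Γ(X, U),
      b = (X.presheaf.map (homOfLE (le_top : U ≤ ⊤)).op).hom t := ⟨_, rfl⟩
    obtain ⟨J, hJ⟩ : ∃ J : Ideal Γ(X, U),
      J = (IsLocalRing.maximalIdeal R).map (δ R g U) := ⟨_, rfl⟩
    have hmem : b ∈ (⨅ n : ℕ, J ^ n • ⊤ : Submodule Γ(X, U) Γ(X, U)) := by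
      rw [Submodule.mem_iInf]
      intro n
      rw [smul_eq_mul, Ideal.mul_top, hJ, ← Ideal.map_pow, hb]
      exact h n ⟨U, hU⟩
    obtain ⟨⟨a, haJ⟩, ha⟩ := (Ideal.mem_iInf_smul_pow_eq_bot_iff J b).mp hmem
    have ha' : a * b = b := ha
    have hia : (i.app U).hom a = 0 := by
      rw [← RingHom.mem_ker, ker_app R (IsLocalRing.maximalIdeal R) i f₀ hsq ⟨U, hU⟩, ← hJ]
      exact haJ
    have hia' : (i.app U) a = 0 := hia
    have hnu : X.presheaf.germ U (i x₀) hxU a ∈ nonunits (X.presheaf.stalk (i x₀)) := by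
      intro hunit
      have h1 : i x₀ ∈ X.basicOpen a := (Scheme.mem_basicOpen X a (i x₀) hxU).mpr hunit
      have h2 : x₀ ∈ i ⁻¹ᵁ X.basicOpen a := h1
      rw [Scheme.preimage_basicOpen, hia', Scheme.basicOpen_zero] at h2
      exact h2
    have hu : IsUnit (1 - X.presheaf.germ U (i x₀) hxU a) :=
      IsLocalRing.isUnit_one_sub_self_of_mem_nonunits _ hnu
    have h3 : (1 - X.presheaf.germ U (i x₀) hxU a) * X.presheaf.germ U (i x₀) hxU b = 0 := by
      rw [sub_mul, one_mul, ← map_mul, ha', sub_self]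
    have h4 : X.presheaf.germ U (i x₀) hxU b = 0 := hu.mul_right_eq_zero.mp h3
    have h5 : X.presheaf.germ ⊤ (i x₀) trivial t = X.presheaf.germ U (i x₀) hxU b := by
      rw [hb]
      exact (TopCat.Presheaf.germ_res_apply X.presheaf (homOfLE (le_top : U ≤ ⊤)) (i x₀) hxU
        t).symm
    rw [h5, h4]
  by_contra hne
  -- the support of `t` is closed
  have hZc : IsClosed {x : X | X.presheaf.germ ⊤ x trivial t ≠ 0} := by
    rw [← isOpen_compl_iff, isOpen_iff_forall_mem_open]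
    intro x hx
    have hx0 : X.presheaf.germ ⊤ x trivial t = 0 := by
      by_contra hcon
      exact hx hcon
    have hx0' : X.presheaf.germ ⊤ x trivial t = X.presheaf.germ ⊤ x trivial 0 := by
      rw [hx0, map_zero]
    obtain ⟨W, hxW, iU, iV, hW⟩ :=
      TopCat.Presheaf.germ_eq X.presheaf x (show x ∈ (⊤ : X.Opens) from trivial)
        (show x ∈ (⊤ : X.Opens) from trivial) t 0 hx0'
    refine ⟨W, ?_, W.2, hxW⟩
    intro y hy hy'
    apply hy'
    have h1 := TopCat.Presheaf.germ_res_apply X.presheaf iU y hy t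
    rw [← h1, hW, map_zero, map_zero]
  -- the support is nonempty
  obtain ⟨z₁, hz₁⟩ : ∃ z₁ : X, X.presheaf.germ ⊤ z₁ trivial t ≠ 0 := by
    by_contra hcon
    push Not at hcon
    apply hne
    apply TopCat.Presheaf.section_ext X.sheaf ⊤ t 0
    intro x hx
    rw [map_zero]
    exact hcon x
  -- its image contains the closed point
  have hcl := g.isClosedMap _ hZc
  have hmemcl : IsLocalRing.closedPoint R ∈
      g '' {x : X | X.presheaf.germ ⊤ x trivial t ≠ 0} :=
    (IsLocalRing.specializes_closedPoint (g z₁)).mem_closed hcl ⟨z₁, hz₁, rfl⟩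
  obtain ⟨z, hzZ, hz⟩ := hmemcl
  -- `z` lies in the closed fibre
  haveI : Nontrivial (R ⧸ IsLocalRing.maximalIdeal R) :=
    Ideal.Quotient.nontrivial_iff.mpr (IsLocalRing.maximalIdeal.isMaximal R).ne_top
  obtain ⟨p⟩ : Nonempty (PrimeSpectrum (R ⧸ IsLocalRing.maximalIdeal R)) := inferInstance
  have hp : (gQ R (IsLocalRing.maximalIdeal R)) p = IsLocalRing.closedPoint R := by
    apply PrimeSpectrum.ext
    show Ideal.comap (Ideal.Quotient.mk (IsLocalRing.maximalIdeal R)) p.asIdeal =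
      IsLocalRing.maximalIdeal R
    apply le_antisymm
    · exact IsLocalRing.le_maximalIdeal (Ideal.IsPrime.ne_top inferInstance)
    · intro r hr
      show Ideal.Quotient.mk (IsLocalRing.maximalIdeal R) r ∈ p.asIdeal
      rw [Ideal.Quotient.eq_zero_iff_mem.mpr hr]
      exact zero_mem _
  obtain ⟨w, hw⟩ : z ∈ Set.range (pullback.fst g (gQ R (IsLocalRing.maximalIdeal R))) := by
    rw [Scheme.Pullback.range_fst]
    exact ⟨p, hp.trans hz.symm⟩
  have h6 := congrArg (fun φ : pullback g (gQ R (IsLocalRing.maximalIdeal R)) ⟶ X => φ w)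
    hsq.isoPullback_inv_fst
  have h7 : i (hsq.isoPullback.inv w) = z := h6.trans hw
  apply hzZ
  rw [← h7]
  exact hA _

include hsq h0 in
/-- **S14285.** -/
theorem main [IsNoetherianRing R] [IsAdicComplete (IsLocalRing.maximalIdeal R) R] [IsProper g] :
    Function.Bijective ((Scheme.ΓSpecIso (CommRingCat.of R)).inv ≫ g.appTop) := by
  have hle : ∀ n : ℕ, IsLocalRing.maximalIdeal R ^ (n + 1) ≤ IsLocalRing.maximalIdeal R :=
    fun n => Ideal.pow_le_self n.succ_ne_zero
  have hloc : ∀ n : ℕ, IsLocalRing (R ⧸ IsLocalRing.maximalIdeal R ^ (n + 1)) :=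
    fun n => isLocalRing_quot R _ (hle n)
  have hart : ∀ n : ℕ, IsArtinianRing (R ⧸ IsLocalRing.maximalIdeal R ^ (n + 1)) :=
    fun n => isArtinianRing_quot_pow R n
  have hI : ∀ (n : ℕ) (c : R), Van g (IsLocalRing.maximalIdeal R ^ (n + 1)) (δ R g ⊤ c) →
      c ∈ IsLocalRing.maximalIdeal R ^ (n + 1) := fun n c hc => by
    haveI := hloc n
    haveI := hart n
    exact mem_of_van_δ g i f₀ hsq h0 _ (hle n) c hc
  have hS : ∀ (n : ℕ) (s : Γ(X, ⊤)), ∃ c : R,
      Van g (IsLocalRing.maximalIdeal R ^ (n + 1)) (s - δ R g ⊤ c) := fun n s => by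
    haveI := hloc n
    haveI := hart n
    exact exists_van_sub g i f₀ hsq h0 _ (hle n) s
  constructor
  · intro x y hxy
    have h1 : δ R g ⊤ (x - y) = 0 := by
      rw [map_sub, δ_top, δ_top]
      exact sub_eq_zero.2 hxy
    have h2 : ∀ n : ℕ, x - y ∈ IsLocalRing.maximalIdeal R ^ n := by
      intro n
      have h3 : x - y ∈ IsLocalRing.maximalIdeal R ^ (n + 1) := hI n _ (by
        rw [h1]
        intro U
        rw [map_zero]
        exact zero_mem _)
      exact Ideal.pow_le_pow_right (Nat.le_succ n) h3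
    have h3 : x - y ∈ (⨅ n : ℕ, IsLocalRing.maximalIdeal R ^ n) := by
      rw [Submodule.mem_iInf]
      exact h2
    rw [Ideal.iInf_pow_eq_bot_of_isLocalRing (IsLocalRing.maximalIdeal R)
      (IsLocalRing.maximalIdeal.isMaximal R).ne_top, Ideal.mem_bot] at h3
    exact sub_eq_zero.1 h3
  · intro s
    choose c hc using fun n => hS n s
    have hstep : ∀ n, c (n + 1) - c n ∈ IsLocalRing.maximalIdeal R ^ (n + 1) := by
      intro n
      apply hI n
      have h1 : δ R g ⊤ (c (n + 1) - c n) =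
          (s - δ R g ⊤ (c n)) - (s - δ R g ⊤ (c (n + 1))) := by
        rw [map_sub]
        ring
      rw [h1]
      exact van_sub (hc n) (van_mono (Ideal.pow_le_pow_right (Nat.le_succ _)) (hc (n + 1)))
    have hcau : ∀ a b : ℕ, a ≤ b → c b - c a ∈ IsLocalRing.maximalIdeal R ^ (a + 1) := by
      intro a b hab
      induction b, hab using Nat.le_induction with
      | base =>
        rw [sub_self]
        exact zero_mem _
      | succ b hab ih =>
        have h1 : c (b + 1) - c a = (c (b + 1) - c b) + (c b - c a) := by ring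
        rw [h1]
        exact Ideal.add_mem _ (Ideal.pow_le_pow_right (by omega) (hstep b)) ih
    obtain ⟨L, hL⟩ := IsPrecomplete.prec
      (inferInstance : IsPrecomplete (IsLocalRing.maximalIdeal R) R) (f := c) (by
      intro a b hab
      rw [SModEq.sub_mem, smul_eq_mul, Ideal.mul_top]
      have h1 := hcau a b hab
      have h2 : c a - c b = -(c b - c a) := by ring
      rw [h2]
      exact (Ideal.neg_mem_iff _).2 (Ideal.pow_le_pow_right (Nat.le_succ a) h1))
    have hLn : ∀ n, L - c n ∈ IsLocalRing.maximalIdeal R ^ n := by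
      intro n
      have h1 := hL n
      rw [SModEq.sub_mem, smul_eq_mul, Ideal.mul_top] at h1
      have h2 : L - c n = -(c n - L) := by ring
      rw [h2]
      exact (Ideal.neg_mem_iff _).2 h1
    refine ⟨L, ?_⟩
    have ht : s - δ R g ⊤ L = 0 := by
      apply eq_zero_of_forall_van g i f₀ hsq
      intro n
      have h1 : s - δ R g ⊤ L = (s - δ R g ⊤ (c n)) - δ R g ⊤ (L - c n) := by
        rw [map_sub]
        ring
      rw [h1]
      exact van_sub (van_mono (Ideal.pow_le_pow_right (Nat.le_succ n)) (hc n)) (van_δ (hLn n))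
    have h8 : δ R g ⊤ L = s := (sub_eq_zero.1 ht).symm
    rw [δ_top] at h8
    exact h8

end Sch

end Groth.Agent.LD.ComplFib
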